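import Groth.Agent.H20LRExt.AffineQuot
import Groth.Agent.H20Comod.TrigSplit
import Groth.Agent.H20Comod.OrbitClosure
import Groth.Agent.H20Comod.Invariants
import Groth.Agent.H19Grp.HopfReduced
import Mathlib.LinearAlgebra.TensorProduct.RightExactness

/-!
The quotient of an affine group by a linearly reductive subgroup is affine.
-/

set_option autoImplicit false
set_option linter.style.haveILetI false
set_option backward.isDefEq.respectTransparency false

universe u

open TensorProduct CategoryTheory AlgebraicGeometry MonoidalCategory CartesianMonoidalCategory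
open MonObj
open Groth.Agent.H20Comod

namespace Groth.Agent.H20LRExt

noncomputable section

attribute [local instance] CoactBr.braidedAlgSpecOf

theorem invariant_of_universal {C : Type*} [Category C] [CartesianMonoidalCategory C] {G H K T : C} [GrpObj G]
    (i : H ⟶ G) (φ : G ⟶ K) (a : T ⟶ G) (n : T ⟶ H) [Epi (lift a n)]
    (h : (a * (n ≫ i)) ≫ φ = a ≫ φ) {T' : C} (a' : T' ⟶ G) (n' : T' ⟶ H) :
    (a' * (n' ≫ i)) ≫ φ = a' ≫ φ := by
  have key : (G ◁ i) ≫ μ[G] ≫ φ = fst G H ≫ φ := by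
    rw [← cancel_epi (lift a n), lift_whiskerLeft_assoc, lift_fst_assoc, ← Category.assoc,
      ← Hom.mul_def, h]
  rw [Hom.mul_def, Category.assoc, ← lift_whiskerLeft_assoc, key, lift_fst_assoc]

variable {k : Type u} [Field k]

theorem appTop_pt_X {B : Type u} [CommRing B] [Algebra k B] (g : Polynomial k →ₐ[k] B) :
    (CoactBr.pt g).left.appTop ((Scheme.ΓSpecIso (CommRingCat.of (Polynomial k))).inv Polynomial.X) =
      (Scheme.ΓSpecIso (CommRingCat.of B)).inv (g Polynomial.X) := by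
  have h := Scheme.ΓSpecIso_inv_naturality (CommRingCat.ofHom g.toRingHom)
  exact (congrArg (fun m : CommRingCat.of (Polynomial k) ⟶ Γ(Spec (CommRingCat.of B), ⊤) => m Polynomial.X) h).symm

theorem rTensor_mem_map_includeLeft {A B : Type u} [CommRing A] [Algebra k A] [CommRing B] [Algebra k B]
    (I : Ideal A) (h : B →ₗ[k] B) {z : A ⊗[k] B}
    (hz : z ∈ I.map (Algebra.TensorProduct.includeLeft : A →ₐ[k] A ⊗[k] B)) :
    h.lTensor A z ∈ I.map (Algebra.TensorProduct.includeLeft : A →ₐ[k] A ⊗[k] B) := by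
  rw [← Submodule.restrictScalars_mem k, Ideal.map_includeLeft_eq] at hz ⊢
  obtain ⟨w, rfl⟩ := hz
  refine ⟨h.lTensor _ w, ?_⟩
  rw [← LinearMap.comp_apply, ← LinearMap.comp_apply, LinearMap.rTensor_comp_lTensor,
    LinearMap.lTensor_comp_rTensor]

theorem sliceR_mem_of_mem_map_includeLeft {A B : Type u} [CommRing A] [Algebra k A] [CommRing B] [Algebra k B]
    (I : Ideal A) (h : B →ₗ[k] k) {z : A ⊗[k] B}
    (hz : z ∈ I.map (Algebra.TensorProduct.includeLeft : A →ₐ[k] A ⊗[k] B)) : sliceR h z ∈ I := by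
  rw [← Submodule.restrictScalars_mem k, Ideal.map_includeLeft_eq] at hz
  exact (sliceR_mem_of_mem_range (W := I.restrictScalars k) hz h : _)

theorem exists_invariant_separating [IsAlgClosed k] {AG AH : Type u} [CommRing AG] [HopfAlgebra k AG]
    [Algebra.FiniteType k AG] [CommRing AH] [HopfAlgebra k AH] (hH : HopfRep.IsLinearlyReductive k AH)
    (ψ : AG →ₐc[k] AH) (hψ : Function.Surjective ψ)
    (ρ : AG →ₐ[k] AG ⊗[k] AH) (hρ : ∀ a, ρ a = (ψ : AG →ₗ[k] AH).lTensor AG (CoalgebraStruct.comul (R := k) a))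
    (Z : Set (PrimeSpectrum AG)) (hZ : IsClosed Z)
    (hsat : ∀ P : PrimeSpectrum (AG ⊗[k] AH),
      PrimeSpectrum.comap (Algebra.TensorProduct.includeLeft : AG →ₐ[k] AG ⊗[k] AH).toRingHom P ∈ Z →
        PrimeSpectrum.comap ρ.toRingHom P ∈ Z)
    (x : AG →ₐ[k] k)
    (hx : ∀ h : AH →ₐ[k] k, (⟨RingHom.ker ((Algebra.TensorProduct.lift x (h.comp (ψ : AG →ₐ[k] AH))
      fun _ _ => .all _ _).comp (Bialgebra.comulAlgHom k AG)).toRingHom, RingHom.ker_isPrime _⟩ : PrimeSpectrum AG) ∉ Z) :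
    ∃ f : AG, ρ f = f ⊗ₜ[k] (1 : AH) ∧ x f = 1 ∧ ∀ p ∈ Z, f ∈ p.asIdeal := by
  classical
  haveI : IsNoetherianRing AG := Algebra.FiniteType.isNoetherianRing k AG
  letI := TrigSplit.pushComod ψ AG
  have hco : ∀ a : AG, HopfRep.Comod.coact (k := k) (A := AH) a = ρ a := fun a => (hρ a).symm
  obtain ⟨α, hα, hα1⟩ := isLinearlyReductive_iff_exists_isIntegral.1 hH
  set I := PrimeSpectrum.vanishingIdeal Z with hI
  have hzero : ∀ p : PrimeSpectrum AG, p ∈ Z ↔ I ≤ p.asIdeal := by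
    intro p
    rw [← SetLike.coe_subset_coe, ← PrimeSpectrum.mem_zeroLocus, hI,
      PrimeSpectrum.zeroLocus_vanishingIdeal_eq_closure, hZ.closure_eq]
  let inL : AG →ₐ[k] AG ⊗[k] AH := Algebra.TensorProduct.includeLeft
  have hrad : I.map ρ ≤ (I.map inL).radical := by
    refine Ideal.map_le_iff_le_comap.2 fun a ha => ?_
    rw [Ideal.mem_comap, Ideal.radical_eq_sInf, Ideal.mem_sInf]
    rintro P ⟨hP, hPp⟩
    have h1 : PrimeSpectrum.comap inL.toRingHom ⟨P, hPp⟩ ∈ Z :=
      (hzero _).2 (Ideal.map_le_iff_le_comap.1 hP)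
    exact (hzero _).1 (hsat ⟨P, hPp⟩ h1) ha
  obtain ⟨N, hN⟩ := Ideal.exists_pow_le_of_le_radical_of_fg hrad
    (Ideal.FG.map (IsNoetherian.noetherian I) (ρ : AG →+* AG ⊗[k] AH))
  let J : Ideal AG := (I.map inL).comap ρ
  have hJsub : ∀ a ∈ J, ∀ φ : AH →ₗ[k] k, actL φ a ∈ J := by
    intro a ha φ
    show ρ (actL φ a) ∈ I.map inL
    rw [← hco, coact_actL, hco]
    exact rTensor_mem_map_includeLeft I _ ha
  have hJI : ∀ a ∈ J, a ∈ I := by
    intro a ha
    rw [← actL_counit (k := k) (A := AH) a, actL_apply, hco]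
    exact sliceR_mem_of_mem_map_includeLeft I _ ha
  have hIJ : I ^ N ≤ J := fun a ha => hN (by rw [← Ideal.map_pow]; exact Ideal.mem_map_of_mem _ ha)
  -- the orbit of `x`
  let θ : AG →ₐ[k] AH := (Algebra.TensorProduct.lift ((Algebra.ofId k AH).comp x) (ψ : AG →ₐ[k] AH)
    fun _ _ => .all _ _).comp (Bialgebra.comulAlgHom k AG)
  have hθ : ∀ a, θ a = sliceL x.toLinearMap (HopfRep.Comod.coact (k := k) (A := AH) a) := by
    intro a
    rw [hco, hρ, sliceL_lTensor]
    show Algebra.TensorProduct.lift ((Algebra.ofId k AH).comp x) (ψ : AG →ₐ[k] AH) (fun _ _ => .all _ _)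
      (CoalgebraStruct.comul (R := k) a) = _
    generalize CoalgebraStruct.comul (R := k) a = z
    induction z using TensorProduct.induction_on with
    | zero => simp
    | tmul p r =>
      rw [Algebra.TensorProduct.lift_tmul, sliceL_tmul, map_smul, Algebra.smul_def]
      rfl
    | add u v hu hv => simp only [map_add, hu, hv]
  have hθsurj : Function.Surjective θ := by
    intro b
    obtain ⟨a, rfl⟩ := hψ b
    obtain ⟨e1, -⟩ := H19Grp.HopfReduced.T_antipode x
    refine ⟨H19Grp.HopfReduced.T (x.comp (HopfAlgebra.antipodeAlgHom k AG)) a, ?_⟩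
    have hT : ∀ c : AG, θ c = ψ (H19Grp.HopfReduced.T x c) := fun c => by
      rw [hθ, hco, hρ, sliceL_lTensor, H19Grp.HopfReduced.T_apply]
      rfl
    rw [hT, ← AlgHom.comp_apply, e1]
    rfl
  have hxθ : ∀ a, x a = CoalgebraStruct.counit (R := k) (θ a) := fun a => by
    rw [hθ, ← apply_sliceR_eq_apply_sliceL, ← actL_apply, actL_counit]
    rfl
  have htop : J ⊔ RingHom.ker θ = ⊤ := by
    by_contra h
    obtain ⟨y, hy⟩ := exists_point_le_ker (k := k) h
    let h0 : AH →ₐ[k] k := AlgHom.liftOfSurjective θ hθsurj y fun a ha => hy (Ideal.mem_sup_right ha)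
    have hy' : ∀ a, h0 (θ a) = y a := fun a => AlgHom.liftOfSurjective_apply θ hθsurj y _ a
    refine hx h0 ((hzero _).2 fun a ha => ?_)
    have h1 : a ^ N ∈ RingHom.ker y := hy (Ideal.mem_sup_left (hIJ (Ideal.pow_mem_pow ha N)))
    have h2 : y a = 0 := by
      rw [RingHom.mem_ker, map_pow] at h1
      exact eq_zero_of_pow_eq_zero h1
    show ((Algebra.TensorProduct.lift x (h0.comp (ψ : AG →ₐ[k] AH)) fun _ _ => .all _ _).comp
      (Bialgebra.comulAlgHom k AG)) a = 0
    rw [← h2, ← hy' a]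
    show _ = h0 (Algebra.TensorProduct.lift ((Algebra.ofId k AH).comp x) (ψ : AG →ₐ[k] AH) (fun _ _ => .all _ _)
      (CoalgebraStruct.comul (R := k) a))
    show Algebra.TensorProduct.lift x (h0.comp (ψ : AG →ₐ[k] AH)) (fun _ _ => .all _ _)
      (CoalgebraStruct.comul (R := k) a) = _
    generalize CoalgebraStruct.comul (R := k) a = z
    induction z using TensorProduct.induction_on with
    | zero => simp
    | tmul p r => simp
    | add u v hu hv => simp only [map_add, hu, hv]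
  obtain ⟨j, hj, l, hl, hjl⟩ := Submodule.mem_sup.1 (show (1 : AG) ∈ J ⊔ RingHom.ker θ from htop ▸ Submodule.mem_top)
  have hfix := actL_mem_fixedPts (k := k) (A := AH) (V := AG) hα hα1 j
  have h1fix : (1 : AG) ∈ HopfRep.fixedPts k AH AG := by
    show HopfRep.Comod.coact (k := k) (A := AH) (1 : AG) = _
    rw [hco, map_one, Algebra.TensorProduct.one_def]
  refine ⟨actL α j, (hco _).symm.trans hfix, ?_, fun p hp => (hzero p).1 hp (hJI _ (hJsub j hj α))⟩
  have hEl : θ (actL α l) = 0 := by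
    rw [hθ, ← TrigSplit.actL_coef, ← hθ, show θ l = 0 from hl, map_zero]
  have hsum : actL α j + actL α l = 1 := by
    rw [← map_add, hjl, actL_eq_self_of_fixed hα1 h1fix]
  rw [eq_sub_of_add_eq hsum, map_sub, map_one, hxθ, hEl, map_zero, sub_zero]

theorem isAffine_quotient [IsAlgClosed k] {AG AH : Type u} [CommRing AG] [HopfAlgebra k AG]
    [Algebra.FiniteType k AG] [CommRing AH] [HopfAlgebra k AH] (hH : HopfRep.IsLinearlyReductive k AH)
    (ψ : AG →ₐc[k] AH) (hψ : Function.Surjective ψ)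
    [IsMonHom (CoactBr.pt (ψ : AG →ₐ[k] AH))]
    (Q : Over (Spec (CommRingCat.of k))) (q : CoactBr.sp k AG ⟶ Q)
    (hq : RedSub.IsQuotient (CoactBr.pt (ψ : AG →ₐ[k] AH)) q) : IsAffine Q.left := by
  classical
  haveI := hq.1; haveI := hq.2.1; haveI := hq.2.2.1
  let inL : AG →ₐ[k] AG ⊗[k] AH := Algebra.TensorProduct.includeLeft
  let ρ : AG →ₐ[k] AG ⊗[k] AH := (Algebra.TensorProduct.map (AlgHom.id k AG) (ψ : AG →ₐ[k] AH)).comp
    (Bialgebra.comulAlgHom k AG)
  have hρ : ∀ a, ρ a = (ψ : AG →ₗ[k] AH).lTensor AG (CoalgebraStruct.comul (R := k) a) := fun a => by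
    show Algebra.TensorProduct.map (AlgHom.id k AG) (ψ : AG →ₐ[k] AH) (CoalgebraStruct.comul (R := k) a) = _
    generalize CoalgebraStruct.comul (R := k) a = z
    induction z using TensorProduct.induction_on with
    | zero => simp
    | tmul p r => rfl
    | add u v hu hv => simp only [map_add, hu, hv]
  have hρ' : ρ = (Algebra.TensorProduct.lift inL
      ((Algebra.TensorProduct.includeRight : AH →ₐ[k] AG ⊗[k] AH).comp (ψ : AG →ₐ[k] AH)) fun _ _ => .all _ _).comp
      (Bialgebra.comulAlgHom k AG) := by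
    refine congrArg (fun t : AG ⊗[k] AG →ₐ[k] AG ⊗[k] AH => t.comp (Bialgebra.comulAlgHom k AG)) ?_
    exact Algebra.TensorProduct.ext (AlgHom.ext fun a => by simp [inL]) (AlgHom.ext fun a => by simp [inL])
  have hρpt : CoactBr.pt ρ = CoactBr.pt inL *
      (CoactBr.pt (Algebra.TensorProduct.includeRight : AH →ₐ[k] AG ⊗[k] AH) ≫ CoactBr.pt (ψ : AG →ₐ[k] AH)) := by
    rw [← CoactBr.pt_comp, CoactBr.pt_mul_pt, hρ']
  have hinvq : CoactBr.pt inL ≫ q = CoactBr.pt ρ ≫ q :=
    (H21Quot.comp_eq_iff hq _ _).2 ⟨_, hρpt⟩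
  let qb : PrimeSpectrum AG → Q.left := fun p => q.left.base p
  have hqb : ∀ P : PrimeSpectrum (AG ⊗[k] AH),
      qb (PrimeSpectrum.comap inL.toRingHom P) = qb (PrimeSpectrum.comap ρ.toRingHom P) := fun P => by
    have h := congrArg (fun m : CoactBr.sp k (AG ⊗[k] AH) ⟶ Q => m.left.base P) hinvq
    exact h
  -- invariant functions descend
  have hdesc : ∀ f : AG, ρ f = f ⊗ₜ[k] (1 : AH) →
      ∃ F : Γ(Q.left, ⊤), q.left.appTop F = (Scheme.ΓSpecIso (CommRingCat.of AG)).inv f := by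
    intro f hf
    let φ : CoactBr.sp k AG ⟶ CoactBr.sp k (Polynomial k) := CoactBr.pt (Polynomial.aeval f)
    let u := lift (CoactBr.pt inL) (CoactBr.pt (Algebra.TensorProduct.includeRight : AH →ₐ[k] AG ⊗[k] AH))
    have hu : u ≫ Functor.LaxMonoidal.μ (algSpec (CommRingCat.of k)) (Opposite.op (CommAlgCat.of k AG))
        (Opposite.op (CommAlgCat.of k AH)) = 𝟙 _ := by
      rw [CoactBr.lift_pt_pt, ← CoactBr.pt_id]
      exact congrArg CoactBr.pt (Algebra.TensorProduct.ext (AlgHom.ext fun a => by simp [inL]) (AlgHom.ext fun a => by simp [inL]))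
    haveI : IsIso u := IsIso.of_isIso_fac_right hu
    have hbase : (CoactBr.pt inL * (CoactBr.pt (Algebra.TensorProduct.includeRight : AH →ₐ[k] AG ⊗[k] AH) ≫
        CoactBr.pt (ψ : AG →ₐ[k] AH))) ≫ φ = CoactBr.pt inL ≫ φ := by
      rw [← hρpt, ← CoactBr.pt_comp, ← CoactBr.pt_comp]
      exact congrArg CoactBr.pt (Polynomial.algHom_ext (by simp [hf, inL]))
    obtain ⟨φ', hφ', -⟩ := H21Quot.desc_unique q φ (fun T a b hab => by
      obtain ⟨n, rfl⟩ := (H21Quot.comp_eq_iff hq a b).1 hab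
      exact (invariant_of_universal _ φ (CoactBr.pt inL)
        (CoactBr.pt (Algebra.TensorProduct.includeRight : AH →ₐ[k] AG ⊗[k] AH)) hbase a n).symm)
    refine ⟨φ'.left.appTop ((Scheme.ΓSpecIso (CommRingCat.of (Polynomial k))).inv Polynomial.X), ?_⟩
    have h1 := appTop_pt_X (Polynomial.aeval f : Polynomial k →ₐ[k] AG)
    rw [Polynomial.aeval_X] at h1
    refine Eq.trans ?_ h1
    have h2 : q.left ≫ φ'.left = (CoactBr.pt (Polynomial.aeval f)).left :=
      congrArg (fun m : CoactBr.sp k AG ⟶ CoactBr.sp k (Polynomial k) => m.left) hφ'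
    rw [← h2, Scheme.Hom.comp_appTop]
    rfl
  have hpre : ∀ (F : Γ(Q.left, ⊤)) (f : AG), q.left.appTop F = (Scheme.ΓSpecIso (CommRingCat.of AG)).inv f →
      ∀ p : PrimeSpectrum AG, (qb p ∈ Q.left.basicOpen F ↔ f ∉ p.asIdeal) := by
    intro F f h p
    show p ∈ q.left ⁻¹ᵁ Q.left.basicOpen F ↔ _
    rw [Scheme.preimage_basicOpen_top, h]
    have e := basicOpen_eq_of_affine (R := CommRingCat.of AG) f
    exact (iff_of_eq (congrArg (fun W : (Spec (CommRingCat.of AG)).Opens => (p : Spec (CommRingCat.of AG)) ∈ W) e)).trans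
      (PrimeSpectrum.mem_basicOpen f p)
  -- local data
  have hloc : ∀ x : AG →ₐ[k] k, ∃ (F : Γ(Q.left, ⊤)) (f : AG), ρ f = f ⊗ₜ[k] (1 : AH) ∧ x f = 1 ∧
      q.left.appTop F = (Scheme.ΓSpecIso (CommRingCat.of AG)).inv f ∧ IsAffineOpen (Q.left.basicOpen F) := by
    intro x
    let px : PrimeSpectrum AG := ⟨RingHom.ker x.toRingHom, RingHom.ker_isPrime _⟩
    obtain ⟨U, hU, hxU, -⟩ := exists_isAffineOpen_mem_and_subset (x := qb px) (U := ⊤) trivial
    have hZ : IsClosed {p : PrimeSpectrum AG | qb p ∉ U} :=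
      (U.isOpen.preimage q.left.base.hom.continuous).isClosed_compl
    obtain ⟨f, hf, hxf, hfZ⟩ := exists_invariant_separating hH ψ hψ ρ hρ _ hZ
      (fun P hP h => hP (by rw [hqb P]; exact h)) x (fun h hmem => hmem (by
        let y := (Algebra.TensorProduct.lift x (h.comp (ψ : AG →ₐ[k] AH)) fun _ _ => .all _ _).comp
          (Bialgebra.comulAlgHom k AG)
        have hy : CoactBr.pt x ≫ q = CoactBr.pt y ≫ q :=
          (H21Quot.comp_eq_iff hq _ _).2 ⟨CoactBr.pt h, by rw [← CoactBr.pt_comp, CoactBr.pt_mul_pt]⟩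
        have h2 := congrArg (fun m : CoactBr.sp k k ⟶ Q => m.left.base
          (⟨⊥, Ideal.isPrime_bot⟩ : PrimeSpectrum k)) hy
        have h3 : ∀ z : AG →ₐ[k] k, PrimeSpectrum.comap z.toRingHom ⟨⊥, Ideal.isPrime_bot⟩ =
            (⟨RingHom.ker z.toRingHom, RingHom.ker_isPrime _⟩ : PrimeSpectrum AG) := fun z => rfl
        have h4 : qb (PrimeSpectrum.comap x.toRingHom ⟨⊥, Ideal.isPrime_bot⟩) =
            qb (PrimeSpectrum.comap y.toRingHom ⟨⊥, Ideal.isPrime_bot⟩) := h2
        rw [h3, h3] at h4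
        exact h4 ▸ hxU))
    obtain ⟨F, hF⟩ := hdesc f hf
    refine ⟨F, f, hf, hxf, hF, ?_⟩
    have hle : Q.left.basicOpen F ≤ U := by
      intro z hz
      obtain ⟨p, rfl⟩ := q.left.surjective z
      by_contra hpU
      exact (hpre F f hF p).1 hz (hfZ p hpU)
    have e : Q.left.basicOpen F = Q.left.basicOpen (Q.left.presheaf.map (homOfLE le_top : U ⟶ ⊤).op F) := by
      rw [Scheme.basicOpen_res, inf_eq_right.2 hle]
    rw [e]
    exact hU.basicOpen _
  choose F f hfinv hxf hF hFaff using hloc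
  refine isAffine_of_isAffineOpen_basicOpen (Set.range F) ?_ (by rintro _ ⟨x, rfl⟩; exact hFaff x)
  -- the invariant functions generate the unit ideal
  have htop : Ideal.span (Set.range f) = ⊤ := by
    by_contra h
    obtain ⟨y, hy⟩ := exists_point_le_ker (k := k) h
    have := hy (Ideal.subset_span ⟨y, rfl⟩)
    rw [RingHom.mem_ker, hxf] at this
    exact one_ne_zero this
  obtain ⟨c, hc⟩ := (Finsupp.mem_span_range_iff_exists_finsupp).1 ((Ideal.eq_top_iff_one _).1 htop)
  letI := TrigSplit.pushComod ψ AG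
  have hco : ∀ a : AG, HopfRep.Comod.coact (k := k) (A := AH) a = ρ a := fun a => (hρ a).symm
  haveI : GLin.IsCoactAlg k AH AG := ⟨by rw [hco, map_one], fun a b => by rw [hco, hco, hco, map_mul]⟩
  obtain ⟨α, hα, hα1⟩ := isLinearlyReductive_iff_exists_isIntegral.1 hH
  have h1fix : (1 : AG) ∈ HopfRep.fixedPts k AH AG := by
    show HopfRep.Comod.coact (k := k) (A := AH) (1 : AG) = _
    rw [hco, map_one, Algebra.TensorProduct.one_def]
  have hC : ∀ x, ∃ C : Γ(Q.left, ⊤), q.left.appTop C = (Scheme.ΓSpecIso (CommRingCat.of AG)).inv (actL α (c x)) :=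
    fun x => hdesc _ ((hco _).symm.trans (actL_mem_fixedPts hα hα1 _))
  choose C hC using hC
  have hEsum : ∑ x ∈ c.support, actL α (c x) * f x = 1 := by
    have h1 : ∀ x, actL α (c x * f x) = actL α (c x) * f x := fun x => by
      rw [mul_comm (c x), actL_mul_of_fixed α (b := f x) (show f x ∈ GLin.invariants k AH AG from
        (GLin.mem_invariants_iff _ _ _ _).2 ((hco _).trans (hfinv x))), mul_comm]
    rw [← Finset.sum_congr rfl fun x _ => h1 x, ← map_sum]
    simp only [Finsupp.sum, smul_eq_mul] at hc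
    rw [hc, actL_eq_self_of_fixed hα1 h1fix]
  let S : Γ(Q.left, ⊤) := ∑ x ∈ c.support, C x * F x
  have hS : q.left.appTop S = (Scheme.ΓSpecIso (CommRingCat.of AG)).inv (1 : AG) := by
    rw [← hEsum]
    simp only [S, map_sum, map_mul, hC, hF]
  have hSunit : IsUnit S := by
    refine Q.left.toRingedSpace.isUnit_of_isUnit_germ ⊤ S fun z hz => ?_
    obtain ⟨p, rfl⟩ := q.left.surjective z
    have hmem : qb p ∈ Q.left.basicOpen S :=
      (hpre S 1 hS p).2 ((Ideal.ne_top_iff_one _).1 p.2.ne_top)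
    exact (Q.left.mem_basicOpen S (qb p) hz).1 hmem
  refine Ideal.eq_top_of_isUnit_mem _ (sum_mem fun x _ => Ideal.mul_mem_left _ _ (Ideal.subset_span ⟨x, rfl⟩)) hSunit

end

end Groth.Agent.H20LRExt
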